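import Cfsg.Agent.CosetEnum.Upper
import Cfsg.Agent.CosetEnum.WE8.Setup

set_option autoImplicit false

/-! Coset table of `Cfsg.Spor.WE8` on 10 cosets. -/

namespace CfsgLib.CosetEnum.WE8E

def t0 : ℕ := 0x9000060000500008000070000400003000020000000001
def t1 : ℕ := 0x8000090000700006000030000400005000010000200000
def t2 : ℕ := 0x9000070000800005000060000200003000040000100000
def t3 : ℕ := 0x9000080000700004000020000600001000050000300000

/-- The packed table of a letter. -/
noncomputable def tb (x : ℕ) : ℕ := (Bool.rec (motive := fun _ => ℕ) (Bool.rec (motive := fun _ => ℕ) t0 t1 (Nat.ble 1 x)) (Bool.rec (motive := fun _ => ℕ) t2 t3 (Nat.ble 3 x)) (Nat.ble 2 x))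

def parN : ℕ := 0x80000600005000040000200002000010000100000fffff
def parX : ℕ := 0x1000000000000003000030000200003000010000000000

/-- Relators, then subgroup generators. -/
def allW : List (List ℕ) := [
  [0, 0],
  [0, 1, 0, 1, 0, 1],
  [0, 2, 0, 2],
  [0, 3, 0, 3, 0, 3],
  [1, 1],
  [1, 2, 1, 2, 1, 2],
  [1, 3, 1, 3],
  [2, 2],
  [2, 3, 2, 3],
  [3, 3],
  [1],
  [2],
  [3]]

/-- The relators in local letters. -/
def rels : List (List ℕ) := [
  [0, 0],
  [0, 1, 0, 1, 0, 1],
  [0, 2, 0, 2],
  [0, 3, 0, 3, 0, 3],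
  [1, 1],
  [1, 2, 1, 2, 1, 2],
  [1, 3, 1, 3],
  [2, 2],
  [2, 3, 2, 3],
  [3, 3]]

/-- The enumeration. -/
noncomputable def enum : Local CfsgLib.CosetEnum.WE8.setup where
  L := [3, 4, 5, 6]
  L' := [4, 5, 6]
  known := []
  known_one := fun v hv => absurd hv List.not_mem_nil
  rels := rels
  rels_ok := by decide +kernel
  subs := [1, 2, 3]
  subs_ok := by decide +kernel
  all := allW
  all_eq := by decide +kernel
  n := 10
  tb := tb
  parN := parN
  parX := parX

/-- The word with a given index. -/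
def wd (r : ℕ) : List ℕ := allW.getD r []

end CfsgLib.CosetEnum.WE8E
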